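import Groth.Agent.Gaga.H989.OAnInst
import Groth.Agent.Sga67.PnGlobal

/-!
# The functions on the cone attached to the analytifications of sections of `O(j)`

* `ev_anS` : the function attached to the analytification of an algebraic section is `fnS`;
* `ev_smul` : multiplication by a holomorphic function;
* `ev_anS_msec` : the function attached to a monomial of degree `k` is the monomial.
-/

set_option autoImplicit false

open CategoryTheory TopologicalSpace Opposite AlgebraicGeometry

noncomputable section

namespace Groth.Agent.Gaga.H989.MonVal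

open Groth.Agent.Gaga.H294.Cone Groth.Agent.Gaga.H294.GenIso Groth.Agent.Gaga.H975.ModSec
  Groth.Agent.Gaga.H988.PnPts Groth.Agent.Gaga.H988.PnCoord CohB1
  Groth.Agent.Gaga.H989.OAn Groth.Agent.Gaga.H989.OAnMap Groth.Agent.Gaga.H989.OAnInst

section General

variable {n : ℕ} {R : Type} [CommRing R] [Algebra ℂ R] [(ProjSpace n R).Over An.SC] [StdOver n R]
  {κ : Type} [Fintype κ] {C : HomCoords (An.top (ProjSpace n R)) (Fin (n + 1)) κ}
  (S : Std C) [IsDomain R] (hol : HolIff C) {j : ℤ}

theorem ev_homSheaf {W : Opens (An.top (ProjSpace n R))}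
    (s : Sec (R := An.hol (ProjSpace n R)) ((An.analytify (ProjSpace n R)).obj (Twist.twistProjSpace n R j)) W) :
    (homSheaf S hol).ev W s =
      (ofSec hol j (app (R := An.hol (ProjSpace n R)) (isoOAn S hol).hom W s)).1 := rfl

theorem ev_anS_eq {U : (ProjSpace n R).Opens} (s : Twist.sectN (𝒜 := polyGrading n R) j (op U)) :
    (homSheaf S hol).ev (preX U) (anS (M := Twist.twistProjSpace n R j) s) = (fnS S s).1 := by
  rw [ev_homSheaf]
  have h := Groth.Agent.Gaga.H986.Pull.app_lft_us (R := (ProjSpace n R).sheaf) (R1 := An.hol (ProjSpace n R))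
    (φ := An.anRingHom (ProjSpace n R)) (L := An.analytify (ProjSpace n R)) (An.analytifyAdj (ProjSpace n R))
    (M := Twist.twistProjSpace n R j) (P := OAn hol j) (toOAn S hol) U s
  exact congrArg (fun t : Sec (R := An.hol (ProjSpace n R)) (OAn hol j) (preX U) => (ofSec hol j t).1) h

theorem ev_smul_eq {W : Opens (An.top (ProjSpace n R))} (r : O (An.hol (ProjSpace n R)) W)
    (s : Sec (R := An.hol (ProjSpace n R)) ((An.analytify (ProjSpace n R)).obj (Twist.twistProjSpace n R j)) W) :
    (homSheaf S hol).ev W (r • s : Sec (R := An.hol (ProjSpace n R))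
      ((An.analytify (ProjSpace n R)).obj (Twist.twistProjSpace n R j)) W) =
      lft C W r.1 * (homSheaf S hol).ev W s := by
  rw [ev_homSheaf, ev_homSheaf, map_smul, ofSec_smul]

end General

variable {n N : ℕ} {R : Type} [CommRing R] [Algebra ℂ R] (c : Coord N R)
  [(ProjSpace n R).Over An.SC] [StdOver n R]

/-- Multiplication by a holomorphic function. -/
theorem ev_smul {j : ℤ} {W : Opens (An.top (ProjSpace n R))} (r : O (An.hol (ProjSpace n R)) W)
    (s : Sec (R := An.hol (ProjSpace n R)) ((An.analytify (ProjSpace n R)).obj (Twist.twistProjSpace n R j)) W)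
    {p : E n N} (hp : p ∈ (homCoords (n := n) (R := R) c).cone W) :
    (homSheaf' c j).ev W (r • s : Sec (R := An.hol (ProjSpace n R))
      ((An.analytify (ProjSpace n R)).obj (Twist.twistProjSpace n R j)) W) p =
      r.1 ⟨pt c p, hp.2⟩ * (homSheaf' c j).ev W s p := by
  have := isDomain_of_coord c
  have h := congrFun (ev_smul_eq (std c) (holIff c) r s) p
  rw [Pi.mul_apply, lft_of_mem _ _ hp.2] at h
  exact h

/-- The function attached to the restriction of the analytification of an algebraic section. -/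
theorem ev_anS [IsDomain R] {j : ℤ} {U : (ProjSpace n R).Opens} (s : Twist.sectN (𝒜 := polyGrading n R) j (op U))
    {W : Opens (An.top (ProjSpace n R))} (hW : W ≤ preX U) {p : E n N}
    (hp : p ∈ (homCoords (n := n) (R := R) c).cone W) :
    (homSheaf' c j).ev W (res (R := An.hol (ProjSpace n R)) ((An.analytify (ProjSpace n R)).obj
      (Twist.twistProjSpace n R j)) hW (anS (M := Twist.twistProjSpace n R j) s)) p = (fnS (std c) s).1 p := by
  have h := (homSheaf' c j).ev_res W (preX U) hW (anS (M := Twist.twistProjSpace n R j) s) p hp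
  exact h.trans (congrFun (ev_anS_eq (std c) (holIff c) s) p)

theorem E_mono {k : ℕ} (P : Groth.Agent.Sga67.PnGlobal.Exp n k) (p : E n N) :
    OAnMap.E (std (n := n) (R := R) c) p (Groth.Agent.Sga67.PnGlobal.mono R P).1 = ∏ i, p.1 i ^ (P.1 i) := by
  change evA (c.chi p.2) p.1 (MvPolynomial.monomial (Finsupp.equivFunOnFinite.symm P.1) 1) = _
  unfold evA
  rw [MvPolynomial.coe_eval₂Hom, MvPolynomial.eval₂_monomial, map_one, one_mul,
    Finsupp.prod_fintype _ _ (fun i => pow_zero _)]
  rfl

/-- **The function attached to a monomial is the monomial.** -/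
theorem ev_anS_msec {k : ℕ} (P : Groth.Agent.Sga67.PnGlobal.Exp n k) {W : Opens (An.top (ProjSpace n R))}
    (hW : W ≤ preX (⊤ : (ProjSpace n R).Opens)) {p : E n N} (hp : p ∈ (homCoords (n := n) (R := R) c).cone W) :
    (homSheaf' c (k : ℤ)).ev W (res (R := An.hol (ProjSpace n R)) ((An.analytify (ProjSpace n R)).obj
      (Twist.twistProjSpace n R (k : ℤ))) hW (anS (M := Twist.twistProjSpace n R (k : ℤ))
        (Groth.Agent.Sga67.PnGlobal.msec R P))) p = ∏ i, p.1 i ^ (P.1 i) := by
  have := isDomain_of_coord c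
  rw [ev_anS c _ hW hp]
  refine (fn_eq (std c) (le_refl (⊤ : (ProjSpace n R).Opens)) (Groth.Agent.Sga67.PnGlobal.msec R P).1
    (Groth.Agent.Sga67.PnGlobal.mono R P) (⟨1, SetLike.GradedOne.one_mem⟩ : polyGrading n R 0)
    (fun x h => x.1.isPrime.ne_top ((Ideal.eq_top_iff_one _).mpr h)) (fun x => rfl) ⟨hp.1, hW hp.2⟩).trans ?_
  rw [E_mono c P p]
  simp

end Groth.Agent.Gaga.H989.MonVal
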